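import Cfsg.Agent.Coset.Fi23.Sylow2.Data
import Mathlib.Data.Nat.Bitwise

/-!
A Sylow 2-subgroup of `Cfsg.Spor.Fi23` as pairs of an element of an elementary abelian group of
order `2 ^ 11` and one of 128 coset representatives.
-/

set_option autoImplicit false
set_option maxRecDepth 100000
set_option Elab.async false

namespace CfsgLib.Coset.Fi23.Sylow2

open CfsgLib.Coset

section Kernel

/-- The product of the selected words. -/
noncomputable def aWs (ws : List (List Nat)) (v : Nat) : List Nat :=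
  List.rec (fun _ => []) (fun w _ ih v =>
    cond (Nat.beq (Nat.mod v 2) 1) (w ++ ih (Nat.div v 2)) (ih (Nat.div v 2))) ws v

/-- The sum of the selected vectors. -/
noncomputable def sxs (ims : List Nat) (v : Nat) : Nat :=
  List.rec (fun _ => 0) (fun a _ ih v =>
    cond (Nat.beq (Nat.mod v 2) 1) (Nat.xor a (ih (Nat.div v 2))) (ih (Nat.div v 2))) ims v

/-- Concatenation of the selected words. -/
noncomputable def subst (W : List (List Nat)) (u : List Nat) : List Nat :=
  List.rec [] (fun l _ ih => W.getD l [] ++ ih) u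

/-- A word for an element of the elementary abelian group. -/
noncomputable def aW (v : Nat) : List Nat := aWs aw v

/-- An entry of a two-dimensional table. -/
noncomputable def ent (T : List (List Nat)) (m j : Nat) : Nat := (T.getD m []).getD j 0

/-- A word for a coset representative. -/
noncomputable def rW (m : Nat) : List Nat := subst tg (RU.getD m [])

/-- The coset table, followed along a word. -/
noncomputable def folr (m : Nat) (u : List Nat) : Nat :=
  List.rec (fun m => m) (fun l _ ih m => ih (ent RTd m l)) u m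

/-- Multiplication of the quotient. -/
noncomputable def mm (m k : Nat) : Nat := folr m (RU.getD k [])

/-- Conjugation by a representative, on the vectors. -/
noncomputable def cj (m v : Nat) : Nat := sxs (MATd.getD m []) v

/-- The iterated action of the generators. -/
noncomputable def itAct (u : List Nat) (v : Nat) : Nat :=
  List.rec (fun v => v) (fun l _ ih v => sxs (act.getD l []) (ih v)) u v

/-- Two words agree. -/
noncomputable def eqW (v w : List Nat) : Bool :=
  cond (checkLetters 10 [v]) (cond (checkLetters 10 [w])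
    (allList (fun b => Nat.beq (follow (tget Top.Tb) b v) (follow (tget Top.Tb) b w))
      [0, 1, 224, 1640, 2]) false) false

end Kernel

theorem eq_of_eqW {v w : List Nat} (h : eqW v w = true) : ev Lg v = ev Lg w := by
  obtain ⟨h1, h2⟩ := cond_false_eq_true.mp h
  obtain ⟨h2, h3⟩ := cond_false_eq_true.mp h2
  exact ev_eq h1 h2 h3

theorem ev_subst (W : List (List Nat)) :
    ∀ u : List Nat, ev Lg (subst W u) = ev (W.map (ev Lg)) u
  | [] => by simp [subst]
  | l :: u => by
    show ev Lg (W.getD l [] ++ subst W u) = _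
    rw [ev_append, ev_cons, ev_subst W u, fl, ← ev_nil (L := Lg), List.getD_map]

/-- An element of the elementary abelian group. -/
noncomputable def A (v : Nat) : Cfsg.Spor.Fi23 := ev Lg (aW v)

/-- The three generators. -/
noncomputable def TL : List Cfsg.Spor.Fi23 := tg.map (ev Lg)

/-- A coset representative. -/
noncomputable def R (m : Nat) : Cfsg.Spor.Fi23 := ev Lg (rW m)

theorem R_eq (m : Nat) : R m = ev TL (RU.getD m []) := ev_subst tg _

/-! ### The elementary abelian group -/

theorem aw_check : allBelow 4 11 (fun i => cond (eqW (aw.getD i [] ++ aw.getD i []) [])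
    (allBelow 4 11 fun j => eqW (aw.getD i [] ++ aw.getD j []) (aw.getD j [] ++ aw.getD i []))
    false) = true := by decide +kernel

theorem aw_sq : ∀ w ∈ aw, ev Lg w * ev Lg w = 1 := by
  intro w hw
  obtain ⟨i, hi, rfl⟩ := List.getElem_of_mem hw
  have h := (cond_false_eq_true.mp (of_allBelow aw_check i hi)).1
  rw [List.getD_eq_getElem _ _ hi] at h
  rw [← ev_append, eq_of_eqW h, ev_nil]

theorem aw_comm : ∀ w ∈ aw, ∀ w' ∈ aw, ev Lg w * ev Lg w' = ev Lg w' * ev Lg w := by
  intro w hw w' hw'
  obtain ⟨i, hi, rfl⟩ := List.getElem_of_mem hw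
  obtain ⟨j, hj, rfl⟩ := List.getElem_of_mem hw'
  have h := of_allBelow (cond_false_eq_true.mp (of_allBelow aw_check i hi)).2 j hj
  rw [List.getD_eq_getElem _ _ hi, List.getD_eq_getElem _ _ hj] at h
  rw [← ev_append, ← ev_append, eq_of_eqW h]

theorem aWs_cons (w : List Nat) (ws : List (List Nat)) (v : Nat) :
    ev Lg (aWs (w :: ws) v) = ev Lg w ^ (v % 2) * ev Lg (aWs ws (v / 2)) := by
  show ev Lg (cond (Nat.beq (v % 2) 1) (w ++ aWs ws (v / 2)) (aWs ws (v / 2))) = _
  rcases Nat.mod_two_eq_zero_or_one v with h | h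
  · rw [h, show Nat.beq 0 1 = false from rfl, cond_false, pow_zero, one_mul]
  · rw [h, show Nat.beq 1 1 = true from rfl, cond_true, pow_one, ev_append]

theorem sxs_cons (a : Nat) (l : List Nat) (v : Nat) :
    sxs (a :: l) v = (if v % 2 = 1 then a else 0) ^^^ sxs l (v / 2) := by
  show cond (Nat.beq (v % 2) 1) (Nat.xor a (sxs l (v / 2))) (sxs l (v / 2)) = _
  rcases Nat.mod_two_eq_zero_or_one v with h | h
  · rw [h, show Nat.beq 0 1 = false from rfl, cond_false, if_neg (by norm_num), Nat.zero_xor]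
  · rw [h, show Nat.beq 1 1 = true from rfl, cond_true, if_pos rfl]
    rfl

theorem commute_aWs {c : Cfsg.Spor.Fi23} : ∀ (ws : List (List Nat)) (v : Nat),
    (∀ w ∈ ws, Commute c (ev Lg w)) → Commute c (ev Lg (aWs ws v))
  | [], v, _ => by simp [aWs]
  | w :: ws, v, h => by
    rw [aWs_cons]
    exact ((h w (by simp)).pow_right _).mul_right
      (commute_aWs ws _ fun x hx => h x (by simp [hx]))

theorem aWs_xor : ∀ ws : List (List Nat), (∀ w ∈ ws, ev Lg w * ev Lg w = 1) →
    (∀ w ∈ ws, ∀ w' ∈ ws, ev Lg w * ev Lg w' = ev Lg w' * ev Lg w) → ∀ v w : Nat,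
    ev Lg (aWs ws v) * ev Lg (aWs ws w) = ev Lg (aWs ws (v ^^^ w))
  | [], _, _, v, w => by simp [aWs]
  | x :: ws, hs, hc, v, w => by
    have ih := aWs_xor ws (fun w hw => hs w (by simp [hw]))
      (fun w hw w' hw' => hc w (by simp [hw]) w' (by simp [hw'])) (v / 2) (w / 2)
    have hcm : Commute (ev Lg x ^ (w % 2)) (ev Lg (aWs ws (v / 2))) :=
      commute_aWs ws _ fun y hy => Commute.pow_left (hc x (by simp) y (by simp [hy])) _
    have e2 : (v ^^^ w) / 2 = v / 2 ^^^ w / 2 := by
      refine Nat.eq_of_testBit_eq fun i => ?_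
      simp [Nat.testBit_div_two, Nat.testBit_xor]
    have e1 : (v ^^^ w) % 2 = (v % 2 + w % 2) % 2 := by
      rw [Nat.xor_mod_two_eq, Nat.add_mod]
    rw [aWs_cons, aWs_cons, aWs_cons, e1, e2, ← ih]
    have hp : ev Lg x ^ (v % 2) * ev Lg x ^ (w % 2) = ev Lg x ^ ((v % 2 + w % 2) % 2) := by
      rw [← pow_add]
      exact pow_eq_pow_mod _ (by rw [pow_two]; exact hs x (by simp))
    rw [← hp, mul_assoc, ← mul_assoc (ev Lg (aWs ws (v / 2))), ← hcm.eq]
    simp only [mul_assoc]

theorem A_mul (v w : Nat) : A v * A w = A (v ^^^ w) := aWs_xor aw aw_sq aw_comm v w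

theorem A_zero : A 0 = 1 := by
  have h : eqW (aW 0) [] = true := by decide +kernel
  rw [A, eq_of_eqW h, ev_nil]

theorem A_sq (v : Nat) : A v * A v = 1 := by rw [A_mul, Nat.xor_self, A_zero]

theorem A_comm (v w : Nat) : A v * A w = A w * A v := by rw [A_mul, A_mul, Nat.xor_comm]

theorem A_inv (v : Nat) : (A v)⁻¹ = A v := inv_eq_of_mul_eq_one_right (A_sq v)

theorem A_moved : allBelow 11 2048 (fun v => cond (Nat.beq v 0) true
    (cond (checkLetters 10 [aW v])
      (cond (allList (fun b => Nat.beq (follow (tget Top.Tb) b (aW v)) b) [0, 1, 224, 1640, 2])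
        false true) false)) = true := by decide +kernel

theorem A_eq_one {v : Nat} (hv : v < 2048) (h : A v = 1) : v = 0 := by
  by_contra hne
  have hc := of_allBelow A_moved v hv
  have hb : Nat.beq v 0 = false := by
    cases hb : Nat.beq v 0
    · rfl
    · exact absurd (Nat.eq_of_beq_eq_true hb) hne
  rw [hb, cond_false] at hc
  obtain ⟨hl, hc⟩ := cond_false_eq_true.mp hc
  have key : allList (fun b => Nat.beq (follow (tget Top.Tb) b (aW v)) b)
      ((base).map Fin.val) = true := by
    refine allList_iff.mpr fun b hb => ?_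
    obtain ⟨i, -, rfl⟩ := List.mem_map.mp hb
    have := (matches_ρ.fix_iff (w := aW v) (i := i)
      (letters_lt (len_Lg ▸ hl) _ (List.mem_singleton_self _))).mp
      (by rw [show ev Lg (aW v) = 1 from h, map_one]; rfl)
    rw [this]
    exact Nat.beq_refl _
  rw [show ((base).map Fin.val) = [0, 1, 224, 1640, 2] from rfl] at key
  simp [key] at hc

theorem A_inj {v w : Nat} (hv : v < 2048) (hw : w < 2048) (h : A v = A w) : v = w := by
  have hx : v ^^^ w < 2 ^ 11 := Nat.xor_lt_two_pow hv hw
  exact Nat.xor_eq_zero_iff.mp (A_eq_one hx (by rw [← A_mul, h, A_sq]))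

/-! ### Conjugation -/

theorem sxs_conj {x : Cfsg.Spor.Fi23} : ∀ (ws : List (List Nat)) (ims : List Nat) (v : Nat),
    ws.length = ims.length →
    (∀ i < ws.length, x * ev Lg (ws.getD i []) * x⁻¹ = A (ims.getD i 0)) →
    x * ev Lg (aWs ws v) * x⁻¹ = A (sxs ims v)
  | [], [], v, _, _ => by simp [aWs, sxs, A_zero]
  | w :: ws, a :: ims, v, hlen, h => by
    have h0 : x * ev Lg w * x⁻¹ = A a := by simpa using h 0 (by simp)
    have ih := sxs_conj ws ims (v / 2) (by simpa using hlen)
      (fun i hi => by simpa using h (i + 1) (by simpa using hi))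
    rw [aWs_cons, sxs_cons, ← A_mul, ← ih]
    rcases Nat.mod_two_eq_zero_or_one v with hm | hm
    · simp [hm, A_zero]
    · simp only [hm, pow_one, if_true, ← h0]
      group

theorem act_check : allBelow 2 3 (fun j => cond (Nat.beq (act.getD j []).length 11)
    (allBelow 4 11 fun i => cond (Nat.ble (Nat.add ((act.getD j []).getD i 0) 1) 2048)
      (eqW (tg.getD j [] ++ aw.getD i []) (aW ((act.getD j []).getD i 0) ++ tg.getD j []))
      false) false) = true := by decide +kernel

theorem TL_fl {j : Nat} (hj : j < 3) : fl TL j = ev Lg (tg.getD j []) := by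
  rw [fl, TL, ← ev_nil (L := Lg), List.getD_map]

theorem conj_t {j : Nat} (hj : j < 3) (v : Nat) :
    fl TL j * A v * (fl TL j)⁻¹ = A (sxs (act.getD j []) v) := by
  have hc := cond_false_eq_true.mp (of_allBelow act_check j hj)
  refine sxs_conj aw (act.getD j []) v (Nat.eq_of_beq_eq_true hc.1).symm fun i hi => ?_
  have h := (cond_false_eq_true.mp (of_allBelow hc.2 i hi)).2
  rw [TL_fl hj, A, mul_inv_eq_iff_eq_mul, ← ev_append, ← ev_append]
  exact eq_of_eqW h

theorem conj_ev : ∀ (u : List Nat) (v : Nat), (∀ l ∈ u, l < 3) →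
    ev TL u * A v * (ev TL u)⁻¹ = A (itAct u v)
  | [], v, _ => by simp [itAct]
  | l :: u, v, h => by
    show _ = A (sxs (act.getD l []) (itAct u v))
    rw [← conj_t (h l (by simp)), ← conj_ev u v (fun x hx => h x (by simp [hx])), ev_cons]
    group

theorem mat_check : allBelow 7 128 (fun m => cond (checkLetters 3 [RU.getD m []])
    (cond (Nat.beq (MATd.getD m []).length 11)
      (allBelow 4 11 fun i => cond (Nat.ble (Nat.add ((MATd.getD m []).getD i 0) 1) 2048)
        (Nat.beq ((MATd.getD m []).getD i 0) (itAct (RU.getD m []) (Nat.shiftLeft 1 i))) false)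
      false) false) = true := by decide +kernel

theorem unit_check : allBelow 4 11 (fun i =>
    eqW (aW (Nat.shiftLeft 1 i)) (aw.getD i [])) = true := by decide +kernel

theorem RU_lt {m : Nat} (hm : m < 128) : ∀ l ∈ RU.getD m [], l < 3 :=
  letters_lt (cond_false_eq_true.mp (of_allBelow mat_check m hm)).1 _ (List.mem_singleton_self _)

theorem conj_R {m : Nat} (hm : m < 128) (v : Nat) : R m * A v * (R m)⁻¹ = A (cj m v) := by
  have hc := cond_false_eq_true.mp (cond_false_eq_true.mp (of_allBelow mat_check m hm)).2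
  refine sxs_conj aw (MATd.getD m []) v (Nat.eq_of_beq_eq_true hc.1).symm fun i hi => ?_
  have h := Nat.eq_of_beq_eq_true (cond_false_eq_true.mp (of_allBelow hc.2 i hi)).2
  rw [h, ← eq_of_eqW (of_allBelow unit_check i hi), R_eq]
  exact conj_ev _ _ (RU_lt hm)

theorem sxs_lt : ∀ (ims : List Nat) (v : Nat), (∀ a ∈ ims, a < 2048) → sxs ims v < 2048
  | [], v, _ => by simp [sxs]
  | a :: l, v, h => by
    rw [sxs_cons]
    refine Nat.xor_lt_two_pow (n := 11) ?_ (sxs_lt l _ fun x hx => h x (by simp [hx]))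
    split
    · exact h a (by simp)
    · norm_num

theorem cj_lt {m : Nat} (hm : m < 128) (v : Nat) : cj m v < 2048 := by
  have hc := cond_false_eq_true.mp (cond_false_eq_true.mp (of_allBelow mat_check m hm)).2
  refine sxs_lt _ v fun a ha => ?_
  obtain ⟨i, hi, rfl⟩ := List.getElem_of_mem ha
  have hl : (MATd.getD m []).length = 11 := Nat.eq_of_beq_eq_true hc.1
  have h := (cond_false_eq_true.mp (of_allBelow hc.2 i (hl ▸ hi))).1
  rw [List.getD_eq_getElem _ _ hi] at h
  exact Nat.ble_eq.mp h

theorem act_lt {j : Nat} (hj : j < 3) (v : Nat) : sxs (act.getD j []) v < 2048 := by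
  have hc := cond_false_eq_true.mp (of_allBelow act_check j hj)
  refine sxs_lt _ v fun a ha => ?_
  obtain ⟨i, hi, rfl⟩ := List.getElem_of_mem ha
  have hl : (act.getD j []).length = 11 := Nat.eq_of_beq_eq_true hc.1
  have h := (cond_false_eq_true.mp (of_allBelow hc.2 i (hl ▸ hi))).1
  rw [List.getD_eq_getElem _ _ hi] at h
  exact Nat.ble_eq.mp h

/-! ### The 2-group -/

theorem step_check : allBelow 7 128 (fun m => allBelow 2 3 fun j =>
    cond (Nat.ble (Nat.add (ent RTd m j) 1) 128) (cond (Nat.ble (Nat.add (ent Qd m j) 1) 2048)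
      (cond (Nat.beq (ent IRTd (ent RTd m j) j) m)
        (eqW (rW m ++ tg.getD j []) (aW (ent Qd m j) ++ rW (ent RTd m j))) false) false) false) =
      true := by decide +kernel

theorem step {m j : Nat} (hm : m < 128) (hj : j < 3) :
    ent RTd m j < 128 ∧ ent Qd m j < 2048 ∧ ent IRTd (ent RTd m j) j = m ∧
      R m * fl TL j = A (ent Qd m j) * R (ent RTd m j) := by
  obtain ⟨h1, h⟩ := cond_false_eq_true.mp (of_allBelow (of_allBelow step_check m hm) j hj)
  obtain ⟨h2, h⟩ := cond_false_eq_true.mp h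
  obtain ⟨h3, h⟩ := cond_false_eq_true.mp h
  refine ⟨Nat.ble_eq.mp h1, Nat.ble_eq.mp h2, Nat.eq_of_beq_eq_true h3, ?_⟩
  rw [TL_fl hj, R, R, A, ← ev_append, ← ev_append]
  exact eq_of_eqW h

/-- Membership in the 2-group. -/
def InT (x : Cfsg.Spor.Fi23) : Prop := ∃ v m : Nat, v < 2048 ∧ m < 128 ∧ x = A v * R m

theorem R_walk : ∀ (u : List Nat) (m : Nat), m < 128 → (∀ l ∈ u, l < 3) →
    folr m u < 128 ∧ ∃ v < 2048, R m * ev TL u = A v * R (folr m u)
  | [], m, hm, _ => ⟨hm, 0, by norm_num, by simp [folr, A_zero]⟩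
  | l :: u, m, hm, h => by
    obtain ⟨h1, h2, -, h4⟩ := step hm (h l (by simp))
    obtain ⟨i1, v, hv, i2⟩ := R_walk u _ h1 (fun x hx => h x (by simp [hx]))
    refine ⟨i1, _, Nat.xor_lt_two_pow (n := 11) h2 hv, ?_⟩
    rw [ev_cons, ← mul_assoc, h4, mul_assoc, i2, ← mul_assoc, A_mul]
    rfl

theorem mm_lt {m k : Nat} (hm : m < 128) (hk : k < 128) : mm m k < 128 :=
  (R_walk _ m hm (RU_lt hk)).1

theorem pair_mul {m k : Nat} (v w : Nat) (hv : v < 2048) (hm : m < 128) (hk : k < 128) :
    ∃ z < 2048, A v * R m * (A w * R k) = A z * R (mm m k) := by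
  obtain ⟨-, q, hq, e⟩ := R_walk _ m hm (RU_lt hk)
  refine ⟨v ^^^ cj m w ^^^ q, Nat.xor_lt_two_pow (n := 11)
    (Nat.xor_lt_two_pow (n := 11) hv (cj_lt hm w)) hq, ?_⟩
  rw [← R_eq] at e
  rw [← A_mul, ← A_mul, mul_assoc (A v * _), mm, ← e, ← conj_R hm]
  group

theorem R_zero : R 0 = 1 := by
  have h : eqW (rW 0) [] = true := by decide +kernel
  rw [R, eq_of_eqW h, ev_nil]

/-- The 2-group. -/
noncomputable def T0 : Subgroup Cfsg.Spor.Fi23 :=
  have := card_le.1
  { carrier := {x | InT x}
    one_mem' := ⟨0, 0, by norm_num, by norm_num, by simp [A_zero, R_zero]⟩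
    mul_mem' := by
      rintro x y ⟨v, m, hv, hm, rfl⟩ ⟨w, k, hw, hk, rfl⟩
      obtain ⟨z, hz, e⟩ := pair_mul v w hv hm hk
      exact ⟨z, mm m k, hz, mm_lt hm hk, e⟩
    inv_mem' := by
      intro x hx
      have hn : ∀ n : Nat, InT (x ^ n) := by
        intro n
        induction n with
        | zero => exact ⟨0, 0, by norm_num, by norm_num, by simp [A_zero, R_zero]⟩
        | succ n ih =>
          obtain ⟨v, m, hv, hm, e⟩ := ih
          obtain ⟨w, k, hw, hk, e'⟩ := hx
          obtain ⟨z, hz, e''⟩ := pair_mul v w hv hm hk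
          exact ⟨z, mm m k, hz, mm_lt hm hk, by rw [pow_succ, e, e', e'']⟩
      have : x⁻¹ = x ^ (orderOf x - 1) := by
        refine inv_eq_of_mul_eq_one_left ?_
        rw [← pow_succ, Nat.sub_add_cancel (orderOf_pos x), pow_orderOf_eq_one]
      show InT x⁻¹
      exact this ▸ hn _ }

theorem mem_T0 {x : Cfsg.Spor.Fi23} : x ∈ T0 ↔ InT x := Iff.rfl

theorem mat_distinct : allBelow 7 128 (fun m => allBelow 7 128 fun k =>
    cond (wordEq (MATd.getD m []) (MATd.getD k [])) (Nat.beq m k) true) = true := by decide +kernel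

theorem wordEq_self : ∀ u : List Nat, wordEq u u = true
  | [] => rfl
  | a :: u => by
    show cond (Nat.beq a a) (wordEq u u) false = true
    rw [Nat.beq_refl, cond_true, wordEq_self u]

theorem cj_unit : allBelow 7 128 (fun m => allBelow 4 11 fun i =>
    Nat.beq (cj m (Nat.shiftLeft 1 i)) ((MATd.getD m []).getD i 0)) = true := by decide +kernel

theorem pair_inj {v w m k : Nat} (hv : v < 2048) (hw : w < 2048) (hm : m < 128) (hk : k < 128)
    (h : A v * R m = A w * R k) : v = w ∧ m = k := by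
  have hcj : ∀ z, cj m z = cj k z := by
    intro z
    refine A_inj (cj_lt hm z) (cj_lt hk z) ?_
    have e : ∀ (v m : Nat), m < 128 → A v * R m * A z * (A v * R m)⁻¹ = A (cj m z) := by
      intro v m hm
      rw [mul_inv_rev, show A v * R m * A z * ((R m)⁻¹ * (A v)⁻¹) =
        A v * (R m * A z * (R m)⁻¹) * (A v)⁻¹ by group, conj_R hm, A_comm]
      group
    rw [← e v m hm, h, e w k hk]
  have hmk : m = k := by
    have hlm := (cond_false_eq_true.mp (cond_false_eq_true.mp (of_allBelow mat_check m hm)).2).1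
    have hlk := (cond_false_eq_true.mp (cond_false_eq_true.mp (of_allBelow mat_check k hk)).2).1
    have hlist : MATd.getD m [] = MATd.getD k [] := by
      refine List.ext_getElem ((Nat.eq_of_beq_eq_true hlm).trans
        (Nat.eq_of_beq_eq_true hlk).symm) fun i h1 h2 => ?_
      have hi : i < 11 := by rw [Nat.eq_of_beq_eq_true hlm] at h1; exact h1
      rw [← List.getD_eq_getElem _ 0 h1, ← List.getD_eq_getElem _ 0 h2,
        ← Nat.eq_of_beq_eq_true (of_allBelow (of_allBelow cj_unit m hm) i hi),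
        ← Nat.eq_of_beq_eq_true (of_allBelow (of_allBelow cj_unit k hk) i hi), hcj]
    have h := of_allBelow (of_allBelow mat_distinct m hm) k hk
    rw [hlist, wordEq_self, cond_true] at h
    exact Nat.eq_of_beq_eq_true h
  exact ⟨A_inj hv hw (by subst hmk; exact mul_right_cancel h), hmk⟩

theorem card_T0 : Nat.card T0 = 2 ^ 18 := by
  let f : Fin 2048 × Fin 128 → T0 := fun p =>
    ⟨A p.1 * R p.2, mem_T0.mpr ⟨p.1, p.2, p.1.2, p.2.2, rfl⟩⟩
  have hf : Function.Bijective f := by
    refine ⟨fun p q h => ?_, fun x => ?_⟩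
    · obtain ⟨h1, h2⟩ := pair_inj p.1.2 q.1.2 p.2.2 q.2.2 (congrArg Subtype.val h)
      exact Prod.ext (Fin.ext h1) (Fin.ext h2)
    · obtain ⟨v, m, hv, hm, e⟩ := mem_T0.mp x.2
      exact ⟨(⟨v, hv⟩, ⟨m, hm⟩), Subtype.ext e.symm⟩
  rw [← Nat.card_eq_of_bijective f hf]
  simp

/-- The Sylow 2-subgroup. -/
noncomputable def P0 : Sylow 2 Cfsg.Spor.Fi23 :=
  have := card_le.1
  have : Fact (Nat.Prime 2) := ⟨Nat.prime_two⟩
  Sylow.ofCard T0 (by
    rw [card_T0, card_and_injective.1]
    congr 1
    rw [show (4089470473293004800 : Nat) = 2 ^ 18 * 15600091832325 by norm_num,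
      Nat.factorization_mul (by norm_num) (by norm_num), Finsupp.add_apply,
      Nat.prime_two.factorization_pow, Finsupp.single_eq_same,
      Nat.factorization_eq_zero_of_not_dvd (by norm_num)])

theorem coe_P0 : (P0 : Subgroup Cfsg.Spor.Fi23) = T0 := rfl

end CfsgLib.Coset.Fi23.Sylow2
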