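import Cfsg.Agent.Coset.Fi23.Sylow2.Basic
import Cfsg.Prelude.Def_Transfer

/-!
A Sylow 2-subgroup of `Cfsg.Spor.Fi23` has exactly one normal elementary abelian subgroup of order
`2 ^ 11` and none larger.
-/

set_option autoImplicit false
set_option maxRecDepth 100000
set_option Elab.async false

namespace CfsgLib.Coset.Fi23.Sylow2

open CfsgLib.Coset

section Kernel

/-- A bit of a mask. -/
noncomputable def has (X k : Nat) : Bool := Nat.beq (Nat.mod (Nat.shiftRight X k) 2) 1

/-- The image of a generator in the quotient. -/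
noncomputable def gi (j : Nat) : Nat := ent RTd 0 j

/-- The conjugate by a generator, in the quotient. -/
noncomputable def kc (m j : Nat) : Nat := ent IRTd (mm (gi j) m) j

/-- The rank. -/
noncomputable def rk (m : Nat) : Nat := rkd.getD m 0

/-- How many numbers in a block pass. -/
noncomputable def cntBlk (d s : Nat) (p : Nat → Bool) : Nat :=
  Nat.rec (fun s => cond (p s) 1 0)
    (fun d ih s => Nat.add (ih s) (ih (Nat.add s (Nat.pow 2 d)))) d s

/-- The vector is fixed by the listed elements. -/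
noncomputable def fixB (G : List Nat) (v : Nat) : Bool :=
  allList (fun g => Nat.beq (cj g v) v) G

/-- The extension of `X` by `m` is listed, where it exists. -/
noncomputable def stepOK (X m : Nat) : Bool :=
  cond (has X m) true (cond (Nat.beq (mm m m) 0)
    (cond (allBelow 7 128 fun x => cond (has X x) (Nat.beq (mm m x) (mm x m)) true)
      (cond (allBelow 2 3 fun j => has X (mm (kc m j) m))
        (List.rec false (fun (e : Nat × List Nat × Nat) _ ih => cond
          (allBelow 7 128 fun k => cond (has X k) (has e.1 k)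
            (cond (has X (mm m k)) (cond (Nat.beq (mm m (mm m k)) k) (has e.1 k) false)
              (cond (has e.1 k) false true))) true ih) Ld) true) true) true)

end Kernel

theorem allBlock_intro (d : Nat) : ∀ (s : Nat) (p : Nat → Bool), (∀ i, p i = true) →
    allBlock d s p = true := by
  induction d with
  | zero => intro s p h; exact h s
  | succ d ih =>
    intro s p h
    show cond (allBlock d (2 * s) p) (allBlock d (2 * s + 1) p) false = true
    rw [ih _ _ h, ih _ _ h]
    rfl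

theorem allBelow_intro {d n : Nat} {p : Nat → Bool} (hn : n ≤ 2 ^ d) (h : ∀ i < n, p i = true) :
    allBelow d n p = true := by
  rw [allBelow, cond_false_eq_true]
  refine ⟨Nat.ble_eq.mpr hn, allBlock_intro d 0 _ fun i => ?_⟩
  cases hb : Nat.ble n i
  · rw [cond_false]
    exact h i (not_le.mp fun hle => by rw [Nat.ble_eq.mpr hle] at hb; exact Bool.noConfusion hb)
  · rfl

theorem cntBlk_eq (p : Nat → Bool) : ∀ d s : Nat,
    cntBlk d s p = ((Finset.Ico s (s + 2 ^ d)).filter fun i => p i = true).card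
  | 0, s => by
    show cond (p s) 1 0 = _
    rw [pow_zero, Nat.Ico_succ_singleton]
    cases h : p s <;> simp [Finset.filter_singleton, h]
  | d + 1, s => by
    show cntBlk d s p + cntBlk d (s + 2 ^ d) p = _
    rw [cntBlk_eq p d s, cntBlk_eq p d (s + 2 ^ d), ← Finset.card_union_of_disjoint,
      ← Finset.filter_union, Finset.Ico_union_Ico_eq_Ico (Nat.le_add_right _ _) (Nat.le_add_right _ _),
      show s + 2 ^ d + 2 ^ d = s + 2 ^ (d + 1) by ring]
    exact Finset.disjoint_filter_filter (Finset.Ico_disjoint_Ico_consecutive _ _ _)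

theorem rank_check : allBelow 7 128 (fun m => cond (Nat.beq (mm m m) 0)
    (allBelow 2 3 fun j => cond (Nat.beq (mm (kc m j) m) 0) true
      (Nat.ble (Nat.add (rk (mm (kc m j) m)) 1) (rk m))) true) = true := by decide +kernel

theorem list_step : allList (fun e => cond (has e.1 0)
    (allBelow 7 128 fun m => stepOK e.1 m) false) Ld = true := by decide +kernel

theorem list_bound : allList (fun e => cond (allList (fun g => has e.1 g) e.2.1)
    (cond (allBelow 7 128 fun k => cond (has e.1 k) (Nat.beq k 0) true) true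
      (Nat.ble (Nat.add (Nat.mul (cntBlk 7 0 (has e.1)) (cntBlk 11 0 (fixB e.2.1))) 1) 2048))
      false) Ld = true := by decide +kernel

theorem first_mem : (1, [], 2048) ∈ Ld := by decide +kernel

/-- A normal elementary abelian subgroup of the 2-group. -/
structure Sit (B : Subgroup Cfsg.Spor.Fi23) : Prop where
  le : B ≤ T0
  norm : ∀ b ∈ B, ∀ t ∈ T0, t * b * t⁻¹ ∈ B
  ea : Cfsg.IsElementaryAbelian 2 B

/-- Its image in the quotient. -/
def Bar (B : Subgroup Cfsg.Spor.Fi23) (m : Nat) : Prop :=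
  m < 128 ∧ ∃ v < 2048, A v * R m ∈ B

theorem gen_eq {j : Nat} (hj : j < 3) :
    gi j < 128 ∧ fl TL j = A (ent Qd 0 j) * R (gi j) ∧ ent Qd 0 j < 2048 := by
  obtain ⟨h1, h2, -, h4⟩ := step (m := 0) (by norm_num) hj
  rw [R_zero, one_mul] at h4
  exact ⟨h1, h4, h2⟩

variable {B : Subgroup Cfsg.Spor.Fi23}

theorem Sit.comm (hB : Sit B) {x y : Cfsg.Spor.Fi23} (hx : x ∈ B) (hy : y ∈ B) : x * y = y * x := by
  have h := hB.ea.1.is_comm.comm (⟨x, hx⟩ : B) ⟨y, hy⟩
  exact congrArg Subtype.val h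

theorem Sit.sq (hB : Sit B) {x : Cfsg.Spor.Fi23} (hx : x ∈ B) : x * x = 1 := by
  rw [← pow_two]; exact hB.ea.2 x hx

theorem bar_zero (B : Subgroup Cfsg.Spor.Fi23) : Bar B 0 :=
  ⟨by norm_num, 0, by norm_num, by rw [A_zero, R_zero, one_mul]; exact one_mem B⟩

theorem bar_mul {m k : Nat} (hm : Bar B m) (hk : Bar B k) : Bar B (mm m k) := by
  obtain ⟨hm, v, hv, hvB⟩ := hm
  obtain ⟨hk, w, hw, hwB⟩ := hk
  obtain ⟨z, hz, e⟩ := pair_mul v w hv hm hk
  exact ⟨mm_lt hm hk, z, hz, e ▸ mul_mem hvB hwB⟩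

theorem bar_comm (hB : Sit B) {m k : Nat} (hm : Bar B m) (hk : Bar B k) : mm m k = mm k m := by
  obtain ⟨hm, v, hv, hvB⟩ := hm
  obtain ⟨hk, w, hw, hwB⟩ := hk
  obtain ⟨z, hz, e⟩ := pair_mul v w hv hm hk
  obtain ⟨z', hz', e'⟩ := pair_mul w v hw hk hm
  exact (pair_inj hz hz' (mm_lt hm hk) (mm_lt hk hm)
    (by rw [← e, ← e', hB.comm hvB hwB])).2

theorem bar_sq (hB : Sit B) {m : Nat} (hm : Bar B m) : mm m m = 0 := by
  obtain ⟨hm, v, hv, hvB⟩ := hm
  obtain ⟨z, hz, e⟩ := pair_mul v v hv hm hm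
  exact (pair_inj hz (by norm_num) (mm_lt hm hm) (by norm_num : 0 < 128)
    (w := 0) (by rw [← e, hB.sq hvB, A_zero, R_zero, one_mul])).2

theorem bar_conj (hB : Sit B) {m j : Nat} (hm : Bar B m) (hj : j < 3) : Bar B (kc m j) := by
  obtain ⟨hm, v, hv, hvB⟩ := hm
  obtain ⟨hg, e0, hq⟩ := gen_eq hj
  have ht : fl TL j ∈ T0 := mem_T0.mpr ⟨_, _, hq, hg, e0⟩
  have hb := hB.norm _ hvB _ ht
  obtain ⟨w, k, hw, hk, e⟩ := mem_T0.mp (hB.le hb)
  obtain ⟨h1, h2, h3, h4⟩ := step hk hj
  obtain ⟨z, hz, e1⟩ := pair_mul (ent Qd 0 j) v hq hg hm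
  have e2 : A (w ^^^ ent Qd k j) * R (ent RTd k j) = A z * R (mm (gi j) m) := by
    rw [← A_mul, mul_assoc, ← h4, ← mul_assoc, ← e, ← e1, ← e0]
    group
  have hk' := (pair_inj (Nat.xor_lt_two_pow (n := 11) hw h2) hz h1 (mm_lt hg hm) e2).2
  have : kc m j = k := by rw [kc, ← hk', h3]
  rw [this]
  exact ⟨hk, w, hw, e ▸ hb⟩

theorem has_one {k : Nat} (hk : has 1 k = true) : k = 0 := by
  by_contra hne
  have h := Nat.eq_of_beq_eq_true hk
  change (1 >>> k) % 2 = 1 at h
  rw [Nat.shiftRight_eq_div_pow, Nat.div_eq_of_lt (Nat.one_lt_two_pow hne)] at h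
  exact absurd h (by norm_num)

/-- A mask inside the image. -/
def Inside (B : Subgroup Cfsg.Spor.Fi23) (X : Nat) : Prop :=
  ∀ k < 128, has X k = true → Bar B k

theorem exists_exact (hB : Sit B) :
    ∃ e ∈ Ld, ∀ k < 128, (has e.1 k = true ↔ Bar B k) := by
  classical
  let good : Finset Nat := (Ld.map Prod.fst).toFinset.filter (Inside B)
  have hne : good.Nonempty := ⟨1, Finset.mem_filter.mpr
    ⟨List.mem_toFinset.mpr (List.mem_map.mpr ⟨_, first_mem, rfl⟩),
      fun k _ hh => has_one hh ▸ bar_zero B⟩⟩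
  obtain ⟨X, hX, hmax⟩ := good.exists_max_image
    (fun X => ((Finset.range 128).filter fun k => has X k = true).card) hne
  obtain ⟨hXm, hXS⟩ := Finset.mem_filter.mp hX
  obtain ⟨e, he, rfl⟩ := List.mem_map.mp (List.mem_toFinset.mp hXm)
  refine ⟨e, he, fun k hk => ⟨hXS k hk, fun hS => ?_⟩⟩
  by_contra hk'
  obtain ⟨m, hm, hmin⟩ := ((Finset.range 128).filter fun m => Bar B m ∧ has e.1 m = false)
    |>.exists_min_image rk ⟨k, Finset.mem_filter.mpr
      ⟨Finset.mem_range.mpr hk, hS, by simpa using hk'⟩⟩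
  obtain ⟨hm128, hmS, hmX⟩ := Finset.mem_filter.mp hm
  have hm128 := Finset.mem_range.mp hm128
  have hLs := cond_false_eq_true.mp (allList_iff.mp list_step e he)
  have hcomm : ∀ j < 3, has e.1 (mm (kc m j) m) = true := by
    intro j hj
    by_contra hc
    have hb := bar_mul (bar_conj hB hmS hj) hmS
    have hr := of_allBelow rank_check m hm128
    rw [bar_sq hB hmS, show Nat.beq 0 0 = true from rfl, cond_true] at hr
    have hr := of_allBelow hr j hj
    cases hz : Nat.beq (mm (kc m j) m) 0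
    · rw [hz, cond_false] at hr
      have := hmin _ (Finset.mem_filter.mpr ⟨Finset.mem_range.mpr hb.1, hb, by simpa using hc⟩)
      have h2 : rk (mm (kc m j) m) + 1 ≤ rk m := Nat.ble_eq.mp hr
      omega
    · rw [Nat.eq_of_beq_eq_true hz] at hc
      exact hc hLs.1
  have hs := of_allBelow hLs.2 m hm128
  rw [stepOK, hmX, cond_false, bar_sq hB hmS, show Nat.beq 0 0 = true from rfl, cond_true] at hs
  have hcm : allBelow 7 128 (fun x => cond (has e.1 x) (Nat.beq (mm m x) (mm x m)) true) = true := by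
    refine allBelow_intro (by norm_num) fun x hx => ?_
    cases hxX : has e.1 x
    · rfl
    · rw [cond_true, bar_comm hB hmS (hXS x hx hxX)]
      exact Nat.beq_refl _
  have hcj : allBelow 2 3 (fun j => has e.1 (mm (kc m j) m)) = true :=
    allBelow_intro (by norm_num) hcomm
  rw [hcm, cond_true, hcj, cond_true] at hs
  have key : ∀ l : List (Nat × List Nat × Nat),
      (List.rec false (fun (f : Nat × List Nat × Nat) _ ih => cond
        (allBelow 7 128 fun k => cond (has e.1 k) (has f.1 k)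
          (cond (has e.1 (mm m k)) (cond (Nat.beq (mm m (mm m k)) k) (has f.1 k) false)
            (cond (has f.1 k) false true))) true ih) l : Bool) = true →
      ∃ f ∈ l, allBelow 7 128 (fun k => cond (has e.1 k) (has f.1 k)
          (cond (has e.1 (mm m k)) (cond (Nat.beq (mm m (mm m k)) k) (has f.1 k) false)
            (cond (has f.1 k) false true))) = true := by
    intro l
    induction l with
    | nil => intro h; exact absurd h Bool.false_ne_true
    | cons f l ih =>
      intro h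
      cases hf : allBelow 7 128 (fun k => cond (has e.1 k) (has f.1 k)
          (cond (has e.1 (mm m k)) (cond (Nat.beq (mm m (mm m k)) k) (has f.1 k) false)
            (cond (has f.1 k) false true)))
      · simp only [hf, cond_false] at h
        obtain ⟨g, hg, hg'⟩ := ih h
        exact ⟨g, by simp [hg], hg'⟩
      · exact ⟨f, by simp, hf⟩
  obtain ⟨f, hf, hY⟩ := key Ld hs
  have hY' := of_allBelow hY
  have hgood : f.1 ∈ good := by
    refine Finset.mem_filter.mpr ⟨List.mem_toFinset.mpr (List.mem_map.mpr ⟨f, hf, rfl⟩),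
      fun k hk hfk => ?_⟩
    cases hXk : has e.1 k
    · have h := hY' k hk
      rw [hXk, cond_false] at h
      cases hXmk : has e.1 (mm m k)
      · rw [hXmk, cond_false, hfk, cond_true] at h
        exact absurd h Bool.false_ne_true
      · rw [hXmk, cond_true] at h
        have he := Nat.eq_of_beq_eq_true (cond_false_eq_true.mp h).1
        rw [← he]
        exact bar_mul hmS (hXS _ (mm_lt hm128 hk) hXmk)
    · exact hXS k hk hXk
  have hsub : (Finset.range 128).filter (fun k => has e.1 k = true) ⊂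
      (Finset.range 128).filter fun k => has f.1 k = true := by
    refine (Finset.ssubset_iff_of_subset fun k hk => ?_).mpr ⟨m, ?_, ?_⟩
    · obtain ⟨hk1, hk2⟩ := Finset.mem_filter.mp hk
      have h := hY' k (Finset.mem_range.mp hk1)
      rw [hk2, cond_true] at h
      exact Finset.mem_filter.mpr ⟨hk1, h⟩
    · have h := hY' m hm128
      rw [hmX, cond_false, bar_sq hB hmS, hLs.1, cond_true] at h
      exact Finset.mem_filter.mpr ⟨Finset.mem_range.mpr hm128, (cond_false_eq_true.mp h).2⟩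
    · simp [hmX]
  exact absurd (hmax _ hgood) (not_le.mpr (Finset.card_lt_card hsub))

theorem fix_of_mem (hB : Sit B) {g z : Nat} (hg : Bar B g) (hz : z < 2048) (hzB : A z ∈ B) :
    cj g z = z := by
  obtain ⟨hg, u, -, huB⟩ := hg
  refine A_inj (cj_lt hg z) hz ?_
  have h := hB.comm huB hzB
  rw [← conj_R hg]
  calc R g * A z * (R g)⁻¹ = (A u)⁻¹ * (A u * R g * A z) * (R g)⁻¹ := by group
    _ = (A u)⁻¹ * (A z * (A u * R g)) * (R g)⁻¹ := by rw [h]
    _ = (A u)⁻¹ * (A z * A u) := by group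
    _ = (A u)⁻¹ * (A u * A z) := by rw [A_comm u z]
    _ = A z := by group

theorem exists_eq_A (hB : Sit B) : Nat.card B < 2 ^ 11 ∨ ∀ b ∈ B, ∃ v < 2048, b = A v := by
  classical
  obtain ⟨e, he, hex⟩ := exists_exact hB
  obtain ⟨hG, hb⟩ := cond_false_eq_true.mp (allList_iff.mp list_bound e he)
  cases htriv : allBelow 7 128 (fun k => cond (has e.1 k) (Nat.beq k 0) true)
  · left
    rw [htriv, cond_false, cntBlk_eq, cntBlk_eq] at hb
    have hb : ((Finset.Ico 0 (0 + 2 ^ 7)).filter fun i => has e.1 i = true).card *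
        ((Finset.Ico 0 (0 + 2 ^ 11)).filter fun i => fixB e.2.1 i = true).card + 1 ≤ 2048 :=
      Nat.ble_eq.mp hb
    set S := (Finset.Ico 0 (0 + 2 ^ 7)).filter fun i => has e.1 i = true with hS
    set F := (Finset.Ico 0 (0 + 2 ^ 11)).filter fun i => fixB e.2.1 i = true with hF
    have hch : ∀ m, ∃ v < 2048, Bar B m → A v * R m ∈ B := by
      intro m
      by_cases hm : Bar B m
      · obtain ⟨-, v, hv, hvB⟩ := hm
        exact ⟨v, hv, fun _ => hvB⟩
      · exact ⟨0, by norm_num, fun h => absurd h hm⟩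
    choose c hc hcB using hch
    choose v m hv hm hvm using fun b : B => mem_T0.mp (hB.le b.2)
    have hbar : ∀ b : B, Bar B (m b) := fun b => ⟨hm b, v b, hv b, hvm b ▸ b.2⟩
    have hmem : ∀ b : B, m b ∈ S ∧ v b ^^^ c (m b) ∈ F := by
      intro b
      refine ⟨Finset.mem_filter.mpr ⟨by simpa using hm b, (hex _ (hm b)).mpr (hbar b)⟩,
        Finset.mem_filter.mpr ⟨by simpa using Nat.xor_lt_two_pow (n := 11) (hv b) (hc (m b)), ?_⟩⟩
      refine allList_iff.mpr fun g hg => ?_
      have hz : A (v b ^^^ c (m b)) ∈ B := by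
        have h := mul_mem b.2 (inv_mem (hcB _ (hbar b)))
        rw [hvm b, mul_inv_rev, A_inv] at h
        have h' : A (v b) * R (m b) * ((R (m b))⁻¹ * A (c (m b))) = A (v b ^^^ c (m b)) := by
          rw [← A_mul]; group
        exact h' ▸ h
      have hg128 : g < 128 := by
        by_contra hlt
        have hh := allList_iff.mp hG g hg
        have := Nat.eq_of_beq_eq_true hh
        have hX : e.1 < 2 ^ 128 := by
          have h := (show allList (fun e => Nat.ble (Nat.add e.1 1) (Nat.pow 2 128)) Ld = true by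
            decide +kernel)
          exact Nat.ble_eq.mp (allList_iff.mp h e he)
        change (e.1 >>> g) % 2 = 1 at this
        rw [Nat.shiftRight_eq_div_pow, Nat.div_eq_of_lt
          (lt_of_lt_of_le hX (Nat.pow_le_pow_right (by norm_num) (not_lt.mp hlt)))] at this
        exact absurd this (by norm_num)
      rw [fix_of_mem hB ((hex g hg128).mp (allList_iff.mp hG g hg))
        (Nat.xor_lt_two_pow (n := 11) (hv b) (hc (m b))) hz]
      exact Nat.beq_refl _
    let f : B → (S ×ˢ F : Finset (Nat × Nat)) := fun b =>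
      ⟨(m b, v b ^^^ c (m b)), Finset.mem_product.mpr (hmem b)⟩
    have hf : Function.Injective f := by
      intro a b h
      have h' := congrArg Subtype.val h
      simp only [f, Prod.mk.injEq] at h'
      obtain ⟨h1, h2⟩ := h'
      rw [h1] at h2
      have h3 : v a = v b := Nat.xor_left_inj.mp h2
      exact Subtype.ext (by rw [hvm a, hvm b, h1, h3])
    have hcard := Nat.card_le_card_of_injective f hf
    rw [Nat.card_eq_fintype_card (α := (S ×ˢ F : Finset (Nat × Nat))), Fintype.card_coe,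
      Finset.card_product] at hcard
    norm_num at hcard hb ⊢
    omega
  · right
    intro b hb'
    obtain ⟨v, m, hv, hm, e'⟩ := mem_T0.mp (hB.le hb')
    have h := of_allBelow htriv m hm
    rw [(hex m hm).mpr ⟨hm, v, hv, e' ▸ hb'⟩, cond_true] at h
    rw [Nat.eq_of_beq_eq_true h, R_zero, mul_one] at e'
    exact ⟨v, hv, e'⟩

/-- The elementary abelian subgroup. -/
noncomputable def Asub : Subgroup Cfsg.Spor.Fi23 where
  carrier := {x | ∃ v < 2048, x = A v}
  one_mem' := ⟨0, by norm_num, A_zero.symm⟩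
  mul_mem' := by
    rintro x y ⟨v, hv, rfl⟩ ⟨w, hw, rfl⟩
    exact ⟨_, Nat.xor_lt_two_pow (n := 11) hv hw, A_mul v w⟩
  inv_mem' := by
    rintro x ⟨v, hv, rfl⟩
    exact ⟨v, hv, A_inv v⟩

theorem card_Asub : Nat.card Asub = 2 ^ 11 := by
  let f : Fin 2048 → Asub := fun v => ⟨A v, v, v.2, rfl⟩
  have hf : Function.Bijective f := by
    refine ⟨fun v w h => Fin.ext (A_inj v.2 w.2 (congrArg Subtype.val h)), fun x => ?_⟩
    obtain ⟨v, hv, e⟩ := x.2
    exact ⟨⟨v, hv⟩, Subtype.ext e.symm⟩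
  rw [← Nat.card_eq_of_bijective f hf]
  simp

theorem sit_Asub : Sit Asub := by
  refine ⟨?_, ?_, ⟨⟨?_⟩⟩, ?_⟩
  · rintro x ⟨v, hv, rfl⟩
    exact mem_T0.mpr ⟨v, 0, hv, by norm_num, by rw [R_zero, mul_one]⟩
  · rintro x ⟨v, hv, rfl⟩ t ht
    obtain ⟨w, m, hw, hm, rfl⟩ := mem_T0.mp ht
    refine ⟨cj m v, cj_lt hm v, ?_⟩
    rw [mul_inv_rev, show A w * R m * A v * ((R m)⁻¹ * (A w)⁻¹) =
      A w * (R m * A v * (R m)⁻¹) * (A w)⁻¹ by group, conj_R hm, A_comm]
    group
  · rintro ⟨x, v, hv, rfl⟩ ⟨y, w, hw, rfl⟩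
    exact Subtype.ext (A_comm v w)
  · rintro x ⟨v, hv, rfl⟩
    rw [pow_two, A_sq]

theorem card_le_and_unique (hB : Sit B) :
    Nat.card B ≤ 2 ^ 11 ∧ (Nat.card B = 2 ^ 11 → B = Asub) := by
  have := card_le.1
  rcases exists_eq_A hB with h | h
  · exact ⟨h.le, fun h' => absurd h' h.ne⟩
  · have hle : B ≤ Asub := fun b hb => h b hb
    refine ⟨card_Asub ▸ Subgroup.card_le_of_le hle, fun h' => ?_⟩
    exact Subgroup.eq_of_le_of_card_ge hle (by rw [h', card_Asub])

theorem sylow_two_normal_elementary (T : Sylow 2 Cfsg.Spor.Fi23) :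
    (∀ A : Subgroup Cfsg.Spor.Fi23, A ≤ T → (A.subgroupOf T).Normal → Cfsg.IsElementaryAbelian 2 A →
        Nat.card A ≤ 2 ^ 11) ∧
    ∃! A : Subgroup Cfsg.Spor.Fi23, A ≤ T ∧ (A.subgroupOf T).Normal ∧ Cfsg.IsElementaryAbelian 2 A ∧
        Nat.card A = 2 ^ 11 := by
  have := card_le.1
  have : Fact (Nat.Prime 2) := ⟨Nat.prime_two⟩
  obtain ⟨g, hg⟩ := MulAction.exists_smul_eq Cfsg.Spor.Fi23 P0 T
  have hT : ∀ x, x ∈ (T : Subgroup Cfsg.Spor.Fi23) ↔ g⁻¹ * x * g ∈ T0 := by
    intro x
    rw [← hg, Sylow.coe_subgroup_smul, Subgroup.mem_pointwise_smul_iff_inv_smul_mem, coe_P0]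
    simp [MulAut.smul_def]
  have pull : ∀ S : Subgroup Cfsg.Spor.Fi23, S ≤ T → (S.subgroupOf T).Normal →
      Cfsg.IsElementaryAbelian 2 S → Sit (S.map (MulAut.conj g⁻¹).toMonoidHom) := by
    intro S hS hn hea
    refine ⟨?_, ?_, ⟨⟨?_⟩⟩, ?_⟩
    · rintro x ⟨s, hs, rfl⟩
      simpa using (hT s).mp (hS hs)
    · rintro x ⟨s, hs, rfl⟩ t ht
      have htT : g * t * g⁻¹ ∈ (T : Subgroup Cfsg.Spor.Fi23) := (hT _).mpr (by group; exact ht)
      have h := hn.conj_mem ⟨s, hS hs⟩ hs ⟨_, htT⟩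
      refine ⟨_, h, ?_⟩
      simp only [MulEquiv.coe_toMonoidHom, MulAut.conj_apply, inv_inv, Subgroup.subtype_apply,
        Subgroup.coe_mul, Subgroup.coe_inv]
      group
    · rintro ⟨x, s, hs, rfl⟩ ⟨y, r, hr, rfl⟩
      refine Subtype.ext ?_
      show _ * _ = _ * _
      rw [← map_mul, ← map_mul]
      exact congrArg _ (congrArg Subtype.val (hea.1.is_comm.comm (⟨s, hs⟩ : S) ⟨r, hr⟩))
    · rintro x ⟨s, hs, rfl⟩
      rw [← map_pow, hea.2 s hs, map_one]
  have cardmap : ∀ S : Subgroup Cfsg.Spor.Fi23,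
      Nat.card (S.map (MulAut.conj g⁻¹).toMonoidHom) = Nat.card S := fun S =>
    Subgroup.card_map_of_injective (MulAut.conj g⁻¹).injective
  refine ⟨fun S hS hn hea => cardmap S ▸ (card_le_and_unique (pull S hS hn hea)).1,
    Asub.map (MulAut.conj g).toMonoidHom, ⟨?_, ?_, ⟨⟨⟨?_⟩⟩, ?_⟩, ?_⟩, ?_⟩
  · rintro x ⟨a, ha, rfl⟩
    refine (hT _).mpr ?_
    have := sit_Asub.le ha
    simpa [mul_assoc] using this
  · refine ⟨?_⟩
    rintro ⟨x, hxT⟩ hx ⟨t, htT⟩
    obtain ⟨a, ha, rfl⟩ := hx
    refine ⟨_, sit_Asub.norm a ha _ ((hT t).mp htT), ?_⟩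
    simp only [MulEquiv.coe_toMonoidHom, MulAut.conj_apply, Subgroup.subtype_apply, Subgroup.coe_mul,
      Subgroup.coe_inv]
    group
  · rintro ⟨x, a, ha, rfl⟩ ⟨y, b, hb, rfl⟩
    refine Subtype.ext ?_
    show _ * _ = _ * _
    rw [← map_mul, ← map_mul]
    exact congrArg _ (sit_Asub.comm ha hb)
  · rintro x ⟨a, ha, rfl⟩
    rw [← map_pow, sit_Asub.ea.2 a ha, map_one]
  · rw [Subgroup.card_map_of_injective (MulAut.conj g).injective, card_Asub]
  · rintro S ⟨hS, hn, hea, hcard⟩
    have h := (card_le_and_unique (pull S hS hn hea)).2 (by rw [cardmap, hcard])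
    rw [← h, Subgroup.map_map]
    conv_lhs => rw [← Subgroup.map_id S]
    congr 1
    ext x
    simp [mul_assoc]

end CfsgLib.Coset.Fi23.Sylow2
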